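import Cfsg.Agent.DL.St.Main_m3
import Cfsg.Agent.DL.Dat.Tor
import Cfsg.Agent.DL.CF.Uni_m3
import Cfsg.Agent.FastGrp
import Cfsg.Agent.Prune
set_option linter.all false
prune_inst 0x7f00000000000000000000000000000000000000000000000000000000000000000000000000000000000000000000000000000000000000000000000000000000000000000000000000000000000000003fffffffffffffffffffffffffffbeffbdffffffff
open scoped Cfsg.Agent.FastGrp

/-!
# S4817, exceptional rows: tools for a datum (helper87)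

* `conn` : connected centralisers of elements of prime order; `toral` : two commuting elements lie in a stable torus;
* `nrm` : normalisers of regular subsets of the torus;
* `rank_T` : the torus of a subgroup of rank one; `exists_fix_rf` : a fixed representative of a reflection in it;
  `comm_eq` : it is the derived subgroup of the centraliser.
-/

set_option autoImplicit false
set_option linter.unusedSectionVars false

namespace Cfsg.Agent.TO.G2D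

open CoxeterSystem Cfsg.Agent.ChevalleyStructure.CoxeterGeom Cfsg.Agent.Tits.Roots Cfsg.Agent.Nodes.Reps
  Cfsg.Agent.DL Cfsg.Agent.DL.Asm Cfsg.Agent.DL.Uni Cfsg.Agent.KZ.Mts Cfsg.Agent.Nodes Cfsg.Agent.Nodes.BNOf
open scoped commutatorElement

variable {r : ℕ} [Fact r.Prime] {k : Type} [Field k] [CharP k r] {Y : Type} [Group Y] {N : Type} [Fintype N]
  [DecidableEq N] {ρ : Y →* GL N k} {F : MulAut Y} {G : Subgroup Y} [IsAlgClosed k] (D : Datum r ρ F G)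

/-- every element of order `p` of the Weyl group has a root of the form `w b - b` -/
def Cw (p : ℕ) : Prop := ∀ w : D.W, w ≠ 1 → w ^ p = 1 → ∃ b, D.Rt b ∧ D.Rt (D.act w b - b)

theorem chi_pow (a : D.I → ℤ) {z : Y} (hz : z ∈ D.T) (n : ℕ) : D.χ a (z ^ n) = D.χ a z ^ n := by
  induction n with
  | zero => rw [pow_zero, pow_zero, D.χ_one]
  | succ n ih => rw [pow_succ, pow_succ, D.χ_mul a (pow_mem hz n) hz, ih]

theorem pp_one {p : ℕ} (hp : p.Prime) (hW : Cw D p) {z : Y} (hz : z ∈ D.T) (hzp : z ^ p = 1) {w : D.W}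
    (hw : w ∈ BpExc.TorCent.PP D.cs D.h D.χ z) : w = 1 := by
  have : Fact p.Prime := ⟨hp⟩
  have hP := BpExc.TorCent.isPGroup_PP (h := D.h) D.chAdd hz hp (fun a _ => by rw [← chi_pow D a hz, hzp, D.χ_one])
  by_contra h1
  have hn : Nontrivial ↥(BpExc.TorCent.PP D.cs D.h D.χ z) := ⟨⟨⟨w, hw⟩, 1, fun h => h1 (congrArg Subtype.val h)⟩⟩
  obtain ⟨n, h0, hn⟩ := hP.nontrivial_iff_card.1 hn
  obtain ⟨v, hv⟩ := exists_prime_orderOf_dvd_card' (G := ↥(BpExc.TorCent.PP D.cs D.h D.χ z)) p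
    (hn ▸ dvd_pow_self p h0.ne')
  have h2 : (v : D.W) ^ p = 1 := by rw [← Subgroup.coe_pow, ← hv, pow_orderOf_eq_one, Subgroup.coe_one]
  have h3 : (v : D.W) ≠ 1 := fun h => by
    rw [show v = 1 from Subtype.ext h, orderOf_one] at hv
    exact hp.one_lt.ne hv
  have key : ∀ b, D.Rt b → D.Rt (D.act v b - b) → 0 ≤ D.act v b - b → False := fun b hb ha h0 => by
    have h4 : D.χ (D.act v b - b) z = 1 := by
      rw [sub_eq_add_neg, D.χ_add, D.χ_neg, v.2.1 b hb, mul_inv_cancel₀ (D.χ_ne_zero _ _)]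
    have h5 : ∀ j : ℕ, D.act (v ^ (j + 1) : D.W) b - b - (D.act v b - b) ≥ 0 := fun j => by
      induction j with
      | zero => rw [zero_add, pow_one, sub_self]
      | succ j ih =>
        have h6 := (v ^ (j + 1)).2.2 _ ⟨ha, h4⟩ h0
        rw [map_sub, ← rep_mul_apply, Subgroup.coe_pow, ← pow_succ] at h6
        have h7 := add_nonneg h6 ih
        refine le_of_le_of_eq h7 ?_
        simp only [Datum.act]
        abel
    have h6 := h5 (p - 1)
    rw [Nat.sub_add_cancel hp.one_le, h2, Datum.act, map_one, Module.End.one_apply, sub_self, zero_sub] at h6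
    exact ha.not_pos_neg h0 (neg_nonneg.1 h6)
  obtain ⟨b, hb, ha⟩ := hW v h3 h2
  rcases ha.pos_or_neg with h4 | h4
  · exact key b hb ha h4
  · have e : D.act v (-b) - -b = -(D.act v b - b) := by
      simp only [Datum.act, map_neg]
      abel
    exact key (-b) hb.neg (e ▸ ha.neg) (e ▸ neg_nonneg.2 h4)

/-- **Connected centralisers.** -/
theorem conn {p : ℕ} (hp : p.Prime) (hW : Cw D p) {z : Y} (hz : z ∈ D.T) (hzp : z ^ p = 1) (hFz : F z = z) {y : Y}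
    (hy : y ∈ G) (hc : y * z = z * y) : y ∈ D.cen {z} := by
  have hZ : ({z} : Set Y) ⊆ D.T := Set.singleton_subset_iff.2 hz
  have hF : ∀ a ∈ D.Sz {z}, D.g a ∈ D.Sz {z} := fun _ => D.g_mem_Sz hZ fun z hz => by rw [hz, hFz]; rfl
  obtain ⟨c, hc1, m, ⟨w, hm⟩, hmc, rfl⟩ := D.exists_cen_form hZ hy
    (Subgroup.mem_centralizer_singleton_iff.2 hc)
  obtain ⟨v, hv⟩ := D.exists_sub_chamber hZ hF rfl w
  obtain ⟨m', hm'⟩ := Nodes.Reps.exists_rp _ (D.sub hZ hF rfl).nsys v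
  have h1 : m' ∈ D.cen {z} := Datum.Rp.mem_G hm'
  have h2 : D.Rp (D.subW {z} v) m' := D.rp_of_sub hZ hF rfl hm'
  have h3 : D.Rp ((D.subW {z} v)⁻¹ * w) (m'⁻¹ * m) := h2.inv.mul hm
  have h4 : m'⁻¹ * m ∈ Subgroup.centralizer ({z} : Set Y) := mul_mem (inv_mem (D.cen_le_centralizer hZ h1)) hmc
  have h5 : (D.subW {z} v)⁻¹ * w ∈ BpExc.TorCent.PP D.cs D.h D.χ z := by
    refine BpExc.TorCent.mem_PP.2 ⟨fun a _ => D.χ_act_of_comm hZ h3 h4 a rfl, fun a ha h0 => ?_⟩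
    have ha' : a ∈ D.Sz {z} := ⟨ha.1, fun _ h => h ▸ ha.2⟩
    obtain ⟨b, hb, e1⟩ := hv.subset ⟨⟨a, ⟨ha.1, h0⟩, rfl⟩, D.act_mem_Sz hZ hm hmc ha'⟩
    rw [rep_mul_apply]
    exact ((congrArg _ e1.symm).trans (rep_inv_apply _ _ _ _)).symm ▸ hb.1.2
  rw [pp_one D hp hW hz hzp h5] at h3
  have h7 := mul_mem (D.S_le_cen _ hc1) (mul_mem h1 (D.T_le_cen _ h3.mem_of_one))
  rwa [mul_inv_cancel_left] at h7

theorem ss_of_pow {p : ℕ} (hp : p.Prime) (hr : p ≠ r) {z : Y} (hz : z ^ p = 1) : IsSs r z := fun h =>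
  hr ((Nat.prime_dvd_prime_iff_eq Fact.out hp).1 (h.trans (orderOf_dvd_of_pow_eq_one hz))).symm

/-- **Two commuting elements of order `p` lie in a stable torus.** -/
theorem toral {p : ℕ} (hp : p.Prime) (hr : p ≠ r) (hW : Cw D p) {z x : Y} (hz : z ∈ GF F G) (hx : x ∈ GF F G)
    (hzp : z ^ p = 1) (hxp : x ^ p = 1) (hc : x * z = z * x) :
    ∃ (y : Y) (hy : y ∈ G) (hF : y⁻¹ * F y ∈ D.NN), z ∈ (D.conj hy hF).T ∧ x ∈ (D.conj hy hF).T := by
  obtain ⟨T, hT, h1⟩ := (sys' D).toral hz (ss_of_pow hp hr hzp)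
  obtain ⟨y, hy, hF, rfl, -⟩ := Datum.exists_of_pair (pair_Vof hT)
  have hZ : ({z} : Set Y) ⊆ (D.conj hy hF).T := Set.singleton_subset_iff.2 h1
  have hF' : ∀ a ∈ (D.conj hy hF).Sz {z}, (D.conj hy hF).g a ∈ (D.conj hy hF).Sz {z} :=
    fun _ => (D.conj hy hF).g_mem_Sz hZ fun z' hz' => by rw [hz', (mem_GF.1 hz).2]; rfl
  obtain ⟨T', hT', h2⟩ := (sys' ((D.conj hy hF).sub hZ hF' rfl)).toral
    ⟨conn (D.conj hy hF) hp hW h1 hzp hz.2 hx.1 hc, hx.2⟩ (ss_of_pow hp hr hxp)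
  rw [Datum.tori_sub, D.tori_conj] at hT'
  obtain ⟨y', hy', hF'', rfl, -⟩ := Datum.exists_of_pair (pair_Vof hT'.1)
  exact ⟨y', hy', hF'', hT'.2 rfl, h2⟩

omit [IsAlgClosed k] in
/-- the normaliser of a regular subset of the torus -/
theorem nrm {Z : Set Y} (hZ : Z ⊆ D.T) (h0 : D.Sz Z = ∅) {y : Y} (hy : y ∈ G) (h : ∀ z ∈ Z, y⁻¹ * z * y ∈ Z) :
    y ∈ D.NN := by
  obtain ⟨c, hc, m, hm, -, rfl⟩ := D.exists_conj_form (s := fun z : Z => y⁻¹ * z * y) (t := fun z : Z => (z : Y))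
    (fun z => hZ (h z z.2)) (fun z => hZ z.2) hy fun z => by group
  rw [Subtype.range_coe, h0] at hc
  have h1 : c ∈ (⊥ : Subgroup Y) := (RGD.Sup_le fun _ h => h.elim) hc
  rwa [Subgroup.mem_bot.1 h1, one_mul]

/-! ### rank one -/

section Rank

variable {D} {i : D.I} {n : Y}

/-- the two cells -/
def Om (D : Datum r ρ F G) (i : D.I) (n y : Y) : Prop :=
  (∃ a h, y = D.x (sr i) a * hh D i h) ∨ ∃ a h b, y = D.x (sr i) a * (hh D i h * n) * D.x (sr i) b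

theorem xs_hh (i : D.I) (h : kˣ) (c : k) : D.x (sr i) c * hh D i h = hh D i h * D.x (sr i) ((h⁻¹ * h⁻¹ : kˣ) * c) := by
  rw [hh_xs]
  congr 2
  simp only [Units.val_mul, Units.val_inv_eq_inv_val]
  field_simp

theorem Om.mul_x {y : Y} (h : Om D i n y) (c : k) : Om D i n (y * D.x (sr i) c) := by
  rcases h with ⟨a, h, rfl⟩ | ⟨a, h, b, rfl⟩
  · exact .inl ⟨_, h, by rw [mul_assoc, hh_xs, ← mul_assoc, ← D.x_add _ (rt D i)]⟩
  · exact .inr ⟨a, h, _, by rw [mul_assoc, ← D.x_add _ (rt D i)]⟩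

theorem Om.x_mul {y : Y} (h : Om D i n y) (c : k) : Om D i n (D.x (sr i) c * y) := by
  rcases h with ⟨a, h, rfl⟩ | ⟨a, h, b, rfl⟩
  · exact .inl ⟨_, h, by rw [← mul_assoc, ← D.x_add _ (rt D i)]⟩
  · exact .inr ⟨_, h, b, by rw [← mul_assoc, ← mul_assoc, ← D.x_add _ (rt D i)]⟩

theorem Om.hh_mul {y : Y} (h : Om D i n y) (e : kˣ) : Om D i n (hh D i e * y) := by
  rcases h with ⟨a, h, rfl⟩ | ⟨a, h, b, rfl⟩
  · exact .inl ⟨_, e * h, by rw [← mul_assoc, hh_xs, mul_assoc, ← map_mul]⟩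
  · exact .inr ⟨_, e * h, b, by rw [← mul_assoc, ← mul_assoc, hh_xs, map_mul, mul_assoc (D.x _ _), ← mul_assoc (hh D i e)]⟩

variable (hn : Pn D i 1 n)
include hn

theorem Om.mul_hh {y : Y} (h : Om D i n y) (e : kˣ) : Om D i n (y * hh D i e) := by
  rcases h with ⟨a, h, rfl⟩ | ⟨a, h, b, rfl⟩
  · exact .inl ⟨a, h * e, by rw [mul_assoc, ← map_mul]⟩
  · exact .inr ⟨a, h * e⁻¹, (e⁻¹ * e⁻¹ : kˣ) * b, by
      rw [mul_assoc, xs_hh, map_mul (hh D i), ← n_hh hn.rp]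
      simp only [mul_assoc, inv_mul_cancel, mul_one]⟩

theorem Om.n_mul {y : Y} (h : Om D i n y) : Om D i n (n * y) := by
  have h0 := D.x_zero (rt D i)
  have h2 : ∀ h, n * (hh D i h * n) = hh D i (h⁻¹ * -1) := fun h => by rw [map_mul, ← n_hh hn.rp, ← hn.sq]; group
  rcases h with ⟨a, h, rfl⟩ | ⟨a, h, b, rfl⟩
  · rw [← mul_assoc]
    exact (Om.mul_x (.inr ⟨0, 1, 0, by rw [h0, map_one]; group⟩) a).mul_hh hn h
  · by_cases ha : a = 0
    · rw [ha, h0, one_mul, ← mul_assoc, h2]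
      exact Om.mul_x (.inl ⟨0, _, by rw [h0, one_mul]⟩) b
    · have h3 := hn.rel (Units.mk0 a ha)
      rw [Units.val_one, one_mul, Units.val_mk0] at h3
      rw [show n * (D.x (sr i) a * (hh D i h * n) * D.x (sr i) b) =
        n * D.x (sr i) a * n⁻¹ * (n * (hh D i h * n)) * D.x (sr i) b by group, h2]
      exact (Om.mul_hh hn (.inr ⟨_, _, _, h3⟩) _).mul_x b

theorem om_of_mem {y : Y} (hy : y ∈ D.S {sr i, -sr i}) : Om D i n y := by
  let H : Subgroup Y :=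
    { carrier := {g | (∀ y, Om D i n y → Om D i n (g * y)) ∧ ∀ y, Om D i n y → Om D i n (g⁻¹ * y)}
      one_mem' := ⟨fun y h => by rwa [one_mul], fun y h => by rwa [inv_one, one_mul]⟩
      mul_mem' := fun {a b} ha hb => ⟨fun y h => by rw [mul_assoc]; exact ha.1 _ (hb.1 y h), fun y h => by
        rw [mul_inv_rev, mul_assoc]; exact hb.2 _ (ha.2 y h)⟩
      inv_mem' := fun {a} ha => ⟨ha.2, fun y h => by rw [inv_inv]; exact ha.1 y h⟩ }
  have h1 : D.X (sr i) ≤ H := fun u hu => by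
    obtain ⟨c, rfl⟩ := (D.mem_X _ (rt D i) u).1 hu
    exact ⟨fun y h => h.x_mul c, fun y h => by rw [← D.x_neg (rt D i)]; exact h.x_mul _⟩
  have h2 : n ∈ H := ⟨fun y h => h.n_mul hn, fun y h => by rw [hn.inv, mul_assoc]; exact (h.n_mul hn).hh_mul _⟩
  have h3 : D.X (-sr i) ≤ H := fun u hu => by
    have h4 := D.conj_rp hn.rp (rt D i)
    rw [Datum.act, rep_simple_sr] at h4
    rw [← h4, mem_cj] at hu
    have h5 := mul_mem (mul_mem h2 (h1 hu)) (inv_mem h2)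
    rwa [show n * (n⁻¹ * u * n) * n⁻¹ = u by group] at h5
  have h4 : y ∈ H := (RGD.Sup_le fun a ha => by rcases ha with rfl | rfl <;> assumption) hy
  simpa only [mul_one] using h4.1 1 (.inl ⟨0, 1, by rw [D.x_zero (rt D i), map_one, mul_one]⟩)

omit hn in
theorem rank_T_sr {t : Y} (ht : t ∈ D.T) (h : t ∈ D.S {sr i, -sr i}) : ∃ e, t = hh D i e := by
  obtain ⟨n, hn⟩ := exists_pn (D := D) i 1
  rcases om_of_mem hn h with ⟨a, e, h1⟩ | ⟨a, e, b, h1⟩
  · have h2 : D.x (sr i) a = 1 := D.eq_one_of_mem_U_of_mem_T (xU D i a)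
      (by rw [← mul_inv_eq_iff_eq_mul] at h1; exact h1 ▸ mul_mem ht (inv_mem (hh_mem D i e)))
    exact ⟨e, by rw [h1, h2, one_mul]⟩
  · have h2 := (D.eq_of_mem_UNU (one_mem _) (xU D i a) (rp_of_mem ht) (rp_T (hh_mem D i e) hn.rp) (one_mem _) (xU D i b)
      (by rw [one_mul, mul_one]; exact h1)).1
    have h3 := rep_simple_sr D.cs D.h i
    rw [← h2, map_one, Module.End.one_apply] at h3
    exact absurd ((rt D i).not_pos_neg (sr_nonneg i) (h3 ▸ neg_nonpos.2 (sr_nonneg i))) id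

end Rank

variable {D} {a : D.I → ℤ} (ha : D.Rt a)
include ha

omit [IsAlgClosed k] in
theorem rt_pair : ∀ b ∈ ({a, -a} : Set (D.I → ℤ)), D.Rt b := by
  rintro b (rfl | rfl)
  exacts [ha, ha.neg]

/-- **The torus of a subgroup of rank one.** -/
theorem rank_T {t : Y} (ht : t ∈ D.T) (h : t ∈ D.S {a, -a}) : ∃ e, t = D.τ (coch (D.cor a) e) := by
  obtain ⟨w, i, rfl⟩ := ha
  obtain ⟨m, hm, -⟩ := D.exists_rp w
  have h1 : m⁻¹ * t * m⁻¹⁻¹ ∈ D.S {sr i, -sr i} := D.conj_mem_S hm.inv (rt_pair ⟨w, i, rfl⟩) (by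
    rintro b (rfl | rfl)
    · exact .inl (rep_inv_apply _ _ _ _)
    · exact .inr ((map_neg _ _).trans (congrArg Neg.neg (rep_inv_apply _ _ _ _)))) h
  obtain ⟨e, he⟩ := rank_T_sr (D.conj_mem_T (inv_mem ⟨w, hm⟩) ht) h1
  refine ⟨e, ?_⟩
  have h2 := D.conj_τ hm (coch (D.cw i) e)
  rw [mon_coch, ← D.cor_act_sr, ← hh_apply, ← he] at h2
  exact Eq.trans (by group) h2

theorem τ_cor_mem (e : kˣ) {m : Y} (hm : D.Rp (D.rf a) m) (h : m ∈ D.S {a, -a}) :
    D.τ (coch (D.cor a) e) ∈ D.S {a, -a} := by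
  obtain ⟨c, hc⟩ := chr_surj (D.wt_ne_zero ha) e
  have h1 := D.conj_τ_rf ha hm c
  rw [hc, map_mul, map_inv] at h1
  have h2 := mul_mem (D.conj_mem_S_of_T (rt_pair ha) (inv_mem (D.τ_mem c)) h) (inv_mem h)
  rw [show (D.τ c)⁻¹ * m * (D.τ c)⁻¹⁻¹ * m⁻¹ = (D.τ c)⁻¹ * (m * D.τ c * m⁻¹) by group, h1, inv_mul_cancel_left] at h2
  exact (Subgroup.inv_mem_iff _).1 h2

/-- a fixed representative of a reflection inside the subgroup of rank one -/
theorem exists_fix_rf (hg : D.g a = a ∨ D.g a = -a) : ∃ m ∈ D.S {a, -a}, D.Rp (D.rf a) m ∧ F m = m := by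
  obtain ⟨m, hm, h1⟩ := D.exists_rp_rf ha
  obtain ⟨s, hs, t, ht, rfl⟩ := (D.mem_TS (rt_pair ha)).1 ((sup_le_sup_left (sup_le
    (RGD.le_Sup (S := {a, -a}) (.inl rfl)) (RGD.le_Sup (S := {a, -a}) (.inr rfl))) _) hm)
  have h2 : D.Rp (D.rf a) s := by simpa using h1.mul (rp_of_mem (cs := D.cs) (hN := D.nsys) ht).inv
  have h3 : D.Fw (D.rf a) = D.rf a := by
    rw [D.Fw_rf ha]
    rcases hg with h | h <;> rw [h]
    exact D.rf_neg ha
  have h4 : F s ∈ D.S {a, -a} := D.F_mem_S (rt_pair ha) (by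
    rintro b (rfl | rfl)
    · exact hg
    · rw [D.g_neg ha]
      rcases hg with h | h <;> rw [h]
      · exact .inr rfl
      · exact .inl (neg_neg _)) hs
  obtain ⟨e, he⟩ := rank_T ha (h2.unique (h3 ▸ h2.mapF)) (mul_mem (inv_mem hs) h4)
  obtain ⟨j, hj⟩ : ∃ j : ℤ, D.Mx.mulVec (D.cor a) = j • D.cor a := by
    rw [D.Mx_cor ha]
    rcases hg with h | h <;> rw [h]
    · exact ⟨_, rfl⟩
    · exact ⟨-_, by rw [D.cor_neg ha, smul_neg, neg_smul]⟩
  have h5 : j - 1 ≠ 0 := fun h => by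
    refine D.det_Mx_sub_one_ne_zero (Matrix.exists_mulVec_eq_zero_iff.1 ⟨D.cor a, fun h0 => ?_, ?_⟩)
    · have h6 := D.Wm_rf ha
      rw [h0, Matrix.zero_vecMulVec, sub_zero, ← D.Wm_one] at h6
      have h7 := D.act_rf_self ha
      rw [D.Wm_injective h6, Datum.act, map_one, Module.End.one_apply] at h7
      exact ha.ne_zero (self_eq_neg.1 h7)
    · rw [Matrix.sub_mulVec, hj, Matrix.one_mulVec, sub_eq_zero.1 h, one_smul, sub_self]
  obtain ⟨f, hf⟩ := exists_zpow_eq h5 e⁻¹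
  refine ⟨s * D.τ (coch (D.cor a) f), mul_mem hs (τ_cor_mem ha f h2 hs), by
    simpa using h2.mul (rp_of_mem (cs := D.cs) (hN := D.nsys) (D.τ_mem _)), ?_⟩
  rw [map_mul, D.F_τ, mon_coch, hj, coch_zsmul, ← mul_inv_cancel_left s (F s), he, mul_assoc, ← map_mul, ← map_mul,
    ← inv_inv e, ← hf, zpow_sub_one]
  congr 3
  group

omit ha in
/-- the derived subgroup of a connected centraliser -/
theorem comm_eq {Z : Set Y} : ⁅D.cen Z, D.cen Z⁆ = D.S (D.Sz Z) := by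
  refine le_antisymm (Subgroup.commutator_le.2 fun x hx y hy => ?_) (RGD.Sup_le fun b hb u hu => ?_)
  · obtain ⟨s, hs, t, ht, rfl⟩ := (D.mem_TS D.Sz_root).1 hx
    obtain ⟨s', hs', t', ht', rfl⟩ := (D.mem_TS D.Sz_root).1 hy
    have h1 := D.T_comm ht ht'
    rw [show ⁅s * t, s' * t'⁆ = s * (t * s' * t⁻¹) * ((t * t') * (t⁻¹ * s⁻¹ * t⁻¹⁻¹) * (t * t')⁻¹) *
      (t * t' * t⁻¹ * t'⁻¹) * s'⁻¹ by rw [commutatorElement_def]; group, h1, mul_inv_cancel_right, mul_inv_cancel,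
      mul_one]
    exact mul_mem (mul_mem (mul_mem hs (D.conj_mem_S_of_T D.Sz_root ht hs')) (D.conj_mem_S_of_T D.Sz_root
      (mul_mem ht' ht) (D.conj_mem_S_of_T D.Sz_root (inv_mem ht) (inv_mem hs)))) (inv_mem hs')
  · classical
    obtain ⟨c, rfl⟩ := (D.mem_X b hb.1 u).1 hu
    obtain ⟨e, he⟩ := Infinite.exists_notMem_finset ({0, 1} : Finset k)
    rw [Finset.mem_insert, Finset.mem_singleton, not_or] at he
    obtain ⟨t, ht, h1⟩ := D.χ_surj hb.1 he.1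
    have h2 := Subgroup.commutator_mem_commutator (D.T_le_cen Z ht)
      (D.S_le_cen Z (RGD.le_Sup hb (D.x_mem hb.1 (c / (e - 1)))))
    rwa [commutatorElement_def, mul_assoc (t * _), ← mul_assoc, D.tor' hb.1 ht, ← D.x_neg hb.1, ← D.x_add _ hb.1, h1,
      show e * (c / (e - 1)) + -(c / (e - 1)) = c by field_simp [sub_ne_zero.2 he.2]; ring] at h2

end Cfsg.Agent.TO.G2D
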